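import Groth.Agent.Dix.K107.Stab
import Groth.Agent.Dix.K281.ClosedPush
import Groth.Agent.Dix.ExtSeq
import Groth.Agent.Sga4A.IntegralSection
import Groth.Agent.CurvesA.AffCdPush
import Groth.Agent.Sga4h.MuConst
import Groth.Agent.Etcore.SmoothRed

/-!
# `H²(X, G_m) → H²(X₁, G_m)` for a finite birational morphism `X₁ → X`

`eq_zero_of_push`: `f : X₁ ⟶ X` finite and surjective, `X` reduced, `Z` the closed subscheme defined by
the conductor, `T = X₁ ×_X Z`; if `H²(Z, G_m) = 0` and `H¹(T, G_m) = 0` then a class in `H²(X, G_m)` which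
becomes zero in `H²(X, f_* G_m)` is zero.
-/

set_option autoImplicit false
universe u

open CategoryTheory CategoryTheory.Limits CategoryTheory.Abelian AlgebraicGeometry Opposite

namespace K107.FinBir

open Groth.Agent Groth.Agent.Dix.GmPush Groth.Agent.CurvesA.MuConst K107.Stab K281.ClosedGm

section Reduced

/-- A section of a reduced scheme which dies on a scheme surjecting to it is zero. -/
theorem eq_zero_of_appTop {P U : Scheme.{u}} [IsReduced U] (p : P ⟶ U) [Surjective p] (a : Γ(U, ⊤))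
    (h : p.appTop.hom a = 0) : a = 0 := by
  have h1 : U.basicOpen a = ⊥ := by
    rw [eq_bot_iff]
    intro x hx
    obtain ⟨y, rfl⟩ := p.surjective x
    have h2 : y ∈ p ⁻¹ᵁ U.basicOpen a := hx
    rw [Scheme.preimage_basicOpen] at h2
    have h3 : p.app ⊤ a = 0 := h
    rw [h3, Scheme.basicOpen_zero] at h2
    exact h2
  exact (basicOpen_eq_bot_iff a).1 h1

/-- A section which becomes a unit on a scheme surjecting to it is a unit. -/
theorem isUnit_of_appTop {P U : Scheme.{u}} (p : P ⟶ U) [Surjective p] (a : Γ(U, ⊤))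
    (h : IsUnit (p.appTop.hom a)) : IsUnit a := by
  have h1 : U.basicOpen a = ⊤ := by
    rw [eq_top_iff]
    intro x _
    obtain ⟨y, rfl⟩ := p.surjective x
    have h2 : P.basicOpen (p.app ⊤ a) = ⊤ := P.basicOpen_of_isUnit h
    rw [← Scheme.preimage_basicOpen] at h2
    have h3 : y ∈ p ⁻¹ᵁ U.basicOpen a := by rw [h2]; trivial
    exact h3
  have h4 := RingedSpace.isUnit_res_basicOpen U.toRingedSpace (U := ⊤) a
  have h5 : ∀ (V : U.Opens) (e : V = ⊤) (i : V ⟶ ⊤), IsUnit ((U.presheaf.map i.op).hom a) → IsUnit a := by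
    rintro V rfl i hi
    have : i = 𝟙 _ := Subsingleton.elim _ _
    subst this
    simpa using hi
  exact h5 _ h1 (homOfLE (U.basicOpen_le a)) h4

end Reduced

variable {X X₁ Z : Scheme.{u}} (f : X₁ ⟶ X) (i : Z ⟶ X)

/-- The closed subscheme `T = X₁ ×_X Z` of `X₁`. -/
noncomputable abbrev jj : pullback f i ⟶ X₁ := pullback.fst f i

/-- `f_* G_m → f_* j_* G_m`. -/
noncomputable abbrev rr : (EtCoh.push f).obj (EtCoh.Gm X₁) ⟶
    (EtCoh.push f).obj ((EtCoh.push (jj f i)).obj (EtCoh.Gm _)) :=
  (EtCoh.push f).map (EtLim.GmPush (jj f i))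

theorem val_rr (U : X.Etale) (s : EtCoh.sect ((EtCoh.push f).obj (EtCoh.Gm X₁)) U) :
    ((unitOf (X := pullback f i) (U := (EtCoh.bc (jj f i)).obj ((EtCoh.bc f).obj U)) ((rr f i).hom.app (op U) s) :
        Γ(((EtCoh.bc (jj f i)).obj ((EtCoh.bc f).obj U)).left, ⊤)ˣ) :
        Γ(((EtCoh.bc (jj f i)).obj ((EtCoh.bc f).obj U)).left, ⊤)) =
      (proj (jj f i) ((EtCoh.bc f).obj U)).appTop.hom
        (unitOf (X := X₁) (U := (EtCoh.bc f).obj U) s : Γ(((EtCoh.bc f).obj U).left, ⊤)) := rfl

theorem tau_w (U : X.Etale) :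
    (proj (jj f i) ((EtCoh.bc f).obj U) ≫ proj f U) ≫ U.hom =
      (projY (jj f i) ((EtCoh.bc f).obj U) ≫ pullback.snd f i) ≫ i := by
  have h1 := (isPullback (jj f i) ((EtCoh.bc f).obj U)).w
  have h2 := (isPullback f U).w
  have h3 : ((EtCoh.bc f).obj U).hom = projY f U := rfl
  rw [Category.assoc, h2, ← Category.assoc]
  rw [h3] at h1
  rw [h1, Category.assoc, Category.assoc, pullback.condition]

/-- The map `(U ×_X X₁) ×_{X₁} T ⟶ U ×_X Z`. -/
noncomputable def tau (U : X.Etale) :
    ((EtCoh.bc (jj f i)).obj ((EtCoh.bc f).obj U)).left ⟶ ((EtCoh.bc i).obj U).left :=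
  (isPullback i U).lift (proj (jj f i) ((EtCoh.bc f).obj U) ≫ proj f U)
    (projY (jj f i) ((EtCoh.bc f).obj U) ≫ pullback.snd f i) (tau_w f i U)

theorem isPullback_tau (U : X.Etale) :
    IsPullback (proj (jj f i) ((EtCoh.bc f).obj U)) (tau f i U) (proj f U) (proj i U) := by
  have h1 := isPullback (jj f i) ((EtCoh.bc f).obj U)
  have h2 : IsPullback (jj f i) (pullback.snd f i) f i := IsPullback.of_hasPullback f i
  have h3 := h1.paste_vert h2
  have h4 : ((EtCoh.bc f).obj U).hom ≫ f = proj f U ≫ U.hom := (isPullback f U).w.symm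
  rw [h4] at h3
  refine IsPullback.of_bot ?_ ((isPullback i U).lift_fst _ _ _).symm (isPullback i U)
  have h5 : tau f i U ≫ projY i U = projY (jj f i) ((EtCoh.bc f).obj U) ≫ pullback.snd f i :=
    (isPullback i U).lift_snd _ _ _
  rw [h5]
  exact h3

/-- The composite on a section. -/
theorem val_comp (U : X.Etale) (s : EtCoh.sect (EtCoh.Gm X) U) :
    (proj (jj f i) ((EtCoh.bc f).obj U)).appTop.hom ((proj f U).appTop.hom (unitOf s : Γ(U.left, ⊤))) =
      (tau f i U).appTop.hom ((proj i U).appTop.hom (unitOf s : Γ(U.left, ⊤))) := by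
  have h := congrArg (fun k => k.appTop.hom (unitOf s : Γ(U.left, ⊤))) (isPullback_tau f i U).w
  simp only [Scheme.Hom.comp_appTop] at h
  exact h

theorem ker_comp_zero : (kernel.ι (EtLim.GmPush i) ≫ EtLim.GmPush f) ≫ rr f i = 0 := by
  apply Sheaf.hom_ext
  ext U s
  let U' := U.unop
  let a : EtCoh.sect (EtCoh.Gm X) U' := (kernel.ι (EtLim.GmPush i)).hom.app (op U') s
  have h0 : (EtLim.GmPush i).hom.app (op U') a = 0 := by
    have h := congrArg (fun k => k.hom.app (op U') s) (kernel.condition (EtLim.GmPush i))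
    exact h
  have h1 : (proj i U').appTop.hom (unitOf a : Γ(U'.left, ⊤)) = 1 := by
    have h := val_gmPush i U' a
    rw [← h]
    exact congrArg Units.val (congrArg (unitOf (X := Z) (U := (EtCoh.bc i).obj U')) h0)
  change (rr f i).hom.app (op U') ((EtLim.GmPush f).hom.app (op U') a) = 0
  apply unitOf_injective (X := pullback f i) (U := (EtCoh.bc (jj f i)).obj ((EtCoh.bc f).obj U'))
  apply Units.ext
  refine (val_rr f i U' _).trans ?_
  refine Eq.trans (congrArg _ (val_gmPush f U' a)) ?_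
  refine (val_comp f i U' a).trans ?_
  rw [h1, map_one]
  rfl

/-- The comparison of the kernels. -/
noncomputable def theta : kernel (EtLim.GmPush i) ⟶ kernel (rr f i) :=
  kernel.lift _ (kernel.ι (EtLim.GmPush i) ≫ EtLim.GmPush f) (ker_comp_zero f i)

theorem theta_ι : theta f i ≫ kernel.ι (rr f i) = kernel.ι (EtLim.GmPush i) ≫ EtLim.GmPush f :=
  kernel.lift_ι _ _ _

theorem mono_gmPush [Surjective f] [IsReduced X] : Mono (EtLim.GmPush f) := by
  have hp : Mono ((sheafToPresheaf X.smallEtaleTopology AddCommGrpCat.{u + 1}).map (EtLim.GmPush f)) := by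
    rw [NatTrans.mono_iff_mono_app]
    intro V
    rw [AddCommGrpCat.mono_iff_injective, injective_iff_map_eq_zero]
    intro s hs
    let V' := V.unop
    have : Etale V'.hom := V'.prop
    have hXr : IsReduced ((Functor.fromPUnit X).obj V'.right) := ‹IsReduced X›
    have : IsReduced V'.left := Groth.Agent.Etcore.SmoothRed.isReduced_of_smooth V'.hom
    have : Surjective (proj f V') := MorphismProperty.pullback_fst _ _ ‹Surjective f›
    apply unitOf_injective (X := X) (U := V')
    apply Units.ext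
    rw [← sub_eq_zero]
    refine eq_zero_of_appTop (proj f V') _ ?_
    have h1 : (proj f V').appTop.hom (unitOf (X := X) (U := V') s : Γ(V'.left, ⊤)) = 1 := by
      rw [← val_gmPush f V' s]
      exact congrArg Units.val (congrArg (unitOf (X := X₁) (U := (EtCoh.bc f).obj V')) hs)
    have h2 : ((unitOf (X := X) (U := V') 0 : Γ(V'.left, ⊤)ˣ) : Γ(V'.left, ⊤)) = 1 := rfl
    rw [map_sub, h1, h2, map_one, sub_self]
  exact (sheafToPresheaf X.smallEtaleTopology AddCommGrpCat.{u + 1}).mono_of_mono_map hp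

open Groth.Agent.Pic13.H557 in
/-- A unit on `V ×_X X₁` which is `1` on the subscheme defined by the conductor comes from `V`. -/
theorem exists_unit [IsFinite f] [Surjective f] (V : X.Etale) [IsAffine V.left] (O : X.affineOpens)
    (hO : Set.range (V.hom : V.left → X) ⊆ (O.1 : Set X))
    (s : EtCoh.sect ((EtCoh.push f).obj (EtCoh.Gm X₁)) V)
    (hs : (rr f (PatchFin.conductor f).subschemeι).hom.app (op V) s = 0) :
    ∃ t : EtCoh.sect (EtCoh.Gm X) V, (EtLim.GmPush f).hom.app (op V) t = s ∧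
      (EtLim.GmPush (PatchFin.conductor f).subschemeι).hom.app (op V) t = 0 := by
  let i := (PatchFin.conductor f).subschemeι
  have hAP : IsAffine ((EtCoh.bc f).obj V).left := by
    have : IsAffineHom (proj f V) := MorphismProperty.pullback_fst _ _ inferInstance
    exact isAffine_of_isAffineHom (proj f V)
  have hcl : IsClosedImmersion (proj i V) :=
    MorphismProperty.of_isPullback (isPullback i V).flip inferInstance
  have hst := stab_conductor f (isPullback f V) (isPullback i V) O hO
  have hker := ker_appTop (isPullback_tau f i V)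
  have hsurj : Surjective (proj f V) := MorphismProperty.pullback_fst _ _ ‹Surjective f›
  let a : Γ(((EtCoh.bc f).obj V).left, ⊤) := unitOf (X := X₁) (U := (EtCoh.bc f).obj V) s
  have h1 : (proj (jj f i) ((EtCoh.bc f).obj V)).appTop.hom a = 1 := by
    rw [← val_rr f i V s]
    exact congrArg Units.val (congrArg (unitOf (X := pullback f i)
      (U := (EtCoh.bc (jj f i)).obj ((EtCoh.bc f).obj V))) hs)
  have h2 : a - 1 ∈ RingHom.ker (proj (jj f i) ((EtCoh.bc f).obj V)).appTop.hom := by
    rw [RingHom.mem_ker, map_sub, h1, map_one, sub_self]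
  rw [hker] at h2
  obtain ⟨c, hc, hc'⟩ := hst.exists_of_mem_map h2
  have h3 : (proj f V).appTop.hom (1 + c) = a := by
    rw [map_add, map_one, hc', add_sub_cancel]
  have hu : IsUnit (1 + c) := by
    refine isUnit_of_appTop (proj f V) _ ?_
    rw [h3]
    exact Units.isUnit _
  refine ⟨ofUnit hu.unit, ?_, ?_⟩
  · apply unitOf_injective (X := X₁) (U := (EtCoh.bc f).obj V)
    apply Units.ext
    refine (val_gmPush f V (ofUnit hu.unit)).trans ?_
    exact h3
  · apply unitOf_injective (X := (PatchFin.conductor f).subscheme) (U := (EtCoh.bc i).obj V)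
    apply Units.ext
    refine (val_gmPush i V (ofUnit hu.unit)).trans ?_
    change (proj i V).appTop.hom (1 + c) = 1
    rw [map_add, map_one, (RingHom.mem_ker).1 hc, add_zero]

open Groth.Agent.Pic13.H557 in
theorem isIso_theta [IsFinite f] [Surjective f] [IsReduced X] :
    IsIso (theta f (PatchFin.conductor f).subschemeι) := by
  let i := (PatchFin.conductor f).subschemeι
  have hm : Mono (theta f i) := by
    have := mono_gmPush f
    have h : Mono (theta f i ≫ kernel.ι (rr f i)) := by
      rw [theta_ι]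
      exact mono_comp _ _
    exact mono_of_mono (theta f i) (kernel.ι (rr f i))
  have he : Epi (theta f i) := by
    rw [Groth.Agent.Etbase.PushExact.epi_iff]
    intro U s x
    obtain ⟨_, ⟨O, hO, rfl⟩, hxO, -⟩ := X.isBasis_affineOpens.exists_subset_of_mem_open
      (Set.mem_univ (U.hom x)) isOpen_univ
    obtain ⟨W, hW, hxW, hWO⟩ := exists_isAffineOpen_mem_and_subset (X := U.left) (x := x)
      (U := U.hom ⁻¹ᵁ O) hxO
    let V : X.Etale := opn U W
    let g : V ⟶ U := opnι U W
    have hA : IsAffine V.left := hW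
    have hVO : Set.range (V.hom : V.left → X) ⊆ (O : Set X) := by
      rintro _ ⟨y, rfl⟩
      exact hWO y.2
    let s' : EtCoh.sect ((EtCoh.push f).obj (EtCoh.Gm X₁)) V :=
      (kernel.ι (rr f i)).hom.app (op V) ((kernel (rr f i)).obj.map g.op s)
    have hs' : (rr f i).hom.app (op V) s' = 0 :=
      ConcreteCategory.congr_hom (congrArg (fun k => k.hom.app (op V)) (kernel.condition (rr f i)))
        ((kernel (rr f i)).obj.map g.op s)
    obtain ⟨t, ht, ht'⟩ := exists_unit f V ⟨O, hO⟩ hVO s' hs'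
    obtain ⟨t', ht''⟩ := (Groth.Agent.Sga4h.MuConst.kernel_sections (EtLim.GmPush i) V).2 t ht'
    refine ⟨V, g, ⟨x, hxW⟩, rfl, t', ?_⟩
    apply (Groth.Agent.Sga4h.MuConst.kernel_sections (rr f i) V).1
    have h1 : (kernel.ι (rr f i)).hom.app (op V) ((theta f i).hom.app (op V) t') =
        (EtLim.GmPush f).hom.app (op V) ((kernel.ι (EtLim.GmPush i)).hom.app (op V) t') :=
      ConcreteCategory.congr_hom (congrArg (fun k => k.hom.app (op V)) (theta_ι f i)) t'
    rw [h1, ht'', ht]
  exact isIso_of_mono_of_epi _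

open Groth.Agent.Pic13.H557 in
/-- **Injectivity of `H²(X, G_m) → H²(X, f_* G_m)`**. -/
theorem eq_zero_of_push [IsFinite f] [Surjective f] [IsReduced X]
    (hZ : Subsingleton (EtCoh.H (PatchFin.conductor f).subscheme (EtCoh.Gm _) 2))
    (hT : Subsingleton (EtCoh.H (pullback f (PatchFin.conductor f).subschemeι) (EtCoh.Gm _) 1))
    (ξ : EtCoh.H X (EtCoh.Gm X) 2) (hξ : Ext.comp ξ (Ext.mk₀ (EtLim.GmPush f)) (add_zero 2) = 0) : ξ = 0 := by
  let i := (PatchFin.conductor f).subschemeι
  have hi : Epi (EtLim.GmPush i) := K281.ClosedGm.epi_gmPush i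
  have hr : Epi (rr f i) := by
    have : Epi (EtLim.GmPush (jj f i)) := by
      have : IsClosedImmersion (jj f i) := MorphismProperty.pullback_fst _ _ inferInstance
      exact K281.ClosedGm.epi_gmPush _
    exact (Groth.Agent.Sga4A.EtSplit.refines_of_isIntegralHom f).epi_map _
  have hθ : IsIso (theta f i) := isIso_theta f
  have h1 : Subsingleton (EtCoh.H X ((EtCoh.push i).obj (EtCoh.Gm _)) 2) :=
    (Groth.Agent.CurvesA.AffCdPush.H_push_iff_of_isFinite i _ 2).2 hZ
  have h2 : Subsingleton (EtCoh.H X ((EtCoh.push f).obj ((EtCoh.push (jj f i)).obj (EtCoh.Gm _))) 1) :=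
    (Groth.Agent.CurvesA.AffCdPush.H_push_iff_of_isFinite f _ 1).2
      ((Groth.Agent.CurvesA.AffCdPush.H_push_iff_of_isFinite (jj f i) _ 1).2 hT)
  obtain ⟨η, hη⟩ := Groth.Agent.Dix.ExtSeq.exists_of_comp_eq_zero_of_epi (EtLim.GmPush i) ξ
    (@Subsingleton.elim _ h1 _ _)
  have hS : (ShortComplex.mk (kernel.ι (rr f i)) (rr f i) (kernel.condition (rr f i))).ShortExact :=
    { exact := ShortComplex.exact_of_f_is_kernel _ (kernelIsKernel _)
      mono_f := inferInstanceAs (Mono (kernel.ι (rr f i)))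
      epi_g := hr }
  have h3 : (η.comp (Ext.mk₀ (theta f i)) (add_zero 2)).comp (Ext.mk₀ (kernel.ι (rr f i))) (add_zero 2) = 0 := by
    rw [Ext.comp_assoc_of_third_deg_zero, Ext.mk₀_comp_mk₀, theta_ι, ← Ext.mk₀_comp_mk₀,
      ← Ext.comp_assoc_of_third_deg_zero, hη, hξ]
  obtain ⟨x, hx⟩ := Ext.covariant_sequence_exact₁ _ hS _ h3 (n₀ := 1) rfl
  have h4 : η.comp (Ext.mk₀ (theta f i)) (add_zero 2) = 0 := by
    rw [← hx, @Subsingleton.elim _ h2 x 0, Ext.zero_comp]
  have h5 : η = 0 := by
    have h6 := congrArg (fun e => Ext.comp e (Ext.mk₀ (inv (theta f i))) (add_zero 2)) h4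
    simpa [Ext.comp_assoc_of_third_deg_zero] using h6
  rw [← hη, h5, Ext.zero_comp]

end K107.FinBir
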