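import Groth.Agent.Etbc.H212.FinField
import Groth.Agent.CurvesA.AffCdPush
import Groth.Agent.Etbase.EtAffCover
import Groth.Prelude.Def_EtGm
import Mathlib.RingTheory.Unramified.Finite
import Mathlib.AlgebraicGeometry.Morphisms.Etale

/-!
# `H²(Z, G_m) = 0` for a finite scheme over a finite field
-/

set_option autoImplicit false
universe u

open CategoryTheory CategoryTheory.Limits AlgebraicGeometry Opposite

namespace K107.FinGm

open Groth.Agent

/-- An affine étale scheme over a field is finite. -/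
theorem isFinite_of_etale {k : Type u} [Field k] {V : Scheme.{u}} [IsAffine V]
    (v : V ⟶ Spec (CommRingCat.of k)) [Etale v] : IsFinite v := by
  let φ := Spec.preimage (V.isoSpec.inv ≫ v)
  have hφ : Spec.map φ = V.isoSpec.inv ≫ v := Spec.map_preimage _
  have h1 : Etale (Spec.map φ) := by rw [hφ]; infer_instance
  have h2 : φ.hom.Etale := (HasRingHomProperty.Spec_iff (P := @Etale)).1 h1
  let _ : Algebra k Γ(V, ⊤) := φ.hom.toAlgebra
  have h3 : Algebra.Etale k Γ(V, ⊤) := h2
  have h4 : Module.Finite k Γ(V, ⊤) := Algebra.FormallyUnramified.finite_of_free k Γ(V, ⊤)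
  have h5 : IsFinite (Spec.map φ) := (IsFinite.SpecMap_iff φ).2 h4
  have h6 : v = V.isoSpec.hom ≫ Spec.map φ := by rw [hφ, Iso.hom_inv_id_assoc]
  rw [h6]
  infer_instance

/-- The global functions of a finite scheme over a finite field form a finite ring. -/
theorem finite_appTop {k : Type u} [Field k] [Finite k] {W : Scheme.{u}}
    (w : W ⟶ Spec (CommRingCat.of k)) [IsFinite w] : Finite Γ(W, ⊤) := by
  have h1 : w.appTop.hom.Finite := IsFinite.finite_app w ⊤ (isAffineOpen_top _)
  have h2 : Finite Γ(Spec (CommRingCat.of k), ⊤) :=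
    Finite.of_equiv k (Scheme.ΓSpecIso (CommRingCat.of k)).commRingCatIsoToRingEquiv.symm.toEquiv
  let _ := w.appTop.hom.toAlgebra
  have h3 : Module.Finite Γ(Spec (CommRingCat.of k), ⊤) Γ(W, ⊤) := h1
  exact Module.finite_of_finite Γ(Spec (CommRingCat.of k), ⊤)

/-- The direct image of `G_m` along a finite morphism to the spectrum of a finite field is torsion. -/
theorem isTorsion_push {k : Type u} [Field k] [Finite k] {Z : Scheme.{u}}
    (g : Z ⟶ Spec (CommRingCat.of k)) [IsFinite g] : EtCoh.IsTorsion ((EtCoh.push g).obj (EtCoh.Gm Z)) := by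
  intro U s x
  obtain ⟨V, a, y, -, hV, hy⟩ := Etbase.EtAffCover.exists_affine_of_mem
    ((Spec (CommRingCat.of k)).smallEtaleTopology.top_mem U) x
  refine ⟨V, a, ⟨y, hy⟩, ?_⟩
  have : Etale V.hom := V.prop
  let v : V.left ⟶ Spec (CommRingCat.of k) := V.hom
  have hv : Etale v := V.prop
  have h1 : IsFinite v := isFinite_of_etale v
  have h2 : IsFinite (pullback.fst v g) := MorphismProperty.pullback_fst _ _ inferInstance
  have h2' : IsFinite (pullback.fst v g ≫ v) := MorphismProperty.comp_mem _ _ _ h2 h1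
  have h3 : Finite Γ(((EtCoh.bc g).obj V).left, ⊤) :=
    @finite_appTop k _ _ _ (pullback.fst v g ≫ v) h2'
  have h4 : Finite (ULift.{u + 1} (Additive (Γ(((EtCoh.bc g).obj V).left, ⊤))ˣ)) := inferInstance
  have h5 : Finite (((EtCoh.push g).obj (EtCoh.Gm Z)).obj.obj (op V)) := h4
  exact isOfFinAddOrder_of_finite _

/-- **`H²(Z, G_m) = 0`** for a finite scheme over a finite field. -/
theorem subsingleton_H2 {k : Type u} [Field k] [Finite k] {Z : Scheme.{u}}
    (g : Z ⟶ Spec (CommRingCat.of k)) [IsFinite g] : Subsingleton (EtCoh.H Z (EtCoh.Gm Z) 2) :=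
  (CurvesA.AffCdPush.H_push_iff_of_isFinite g (EtCoh.Gm Z) 2).1
    (Etbc.H212.FinField.cohDimLE_finField k _ (isTorsion_push g) 2 (by lia))

end K107.FinGm
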