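import Groth.Agent.Dix.K107.PropCurve
import Groth.Agent.Dix.K107.FinBir
import Groth.Agent.Dix.K107.FinGm
import Groth.Agent.Etcore.CurveComp
import Groth.Agent.Etcore.CurveTop
import Groth.Agent.S14450
import Groth.Agent.CalgA.SerreLocal
import Groth.Agent.CurvesA.DimOne
import Groth.Agent.Etbc.H238.HilbStk
import Groth.Prelude.Def_Dix
import Mathlib.AlgebraicGeometry.Geometrically.Irreducible

/-!
# The Brauer group of a proper curve over a finite field vanishes
-/

set_option autoImplicit false
universe u

open CategoryTheory CategoryTheory.Limits CategoryTheory.Abelian AlgebraicGeometry Opposite TopologicalSpace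

namespace K107.BrCurve

open Groth.Agent Groth.Agent.MiscA.CurvePlaces K107.PullGm

/-- `H²_fppf(C, G_m) = 0` for a normal proper curve over a finite field. -/
theorem eq_zero_of_normal {k : Type u} [Field k] [Finite k] {C : Scheme.{u}} [IsIntegral C]
    (f : C ⟶ Spec (CommRingCat.of k)) [IsProper f] (hn : Pi1.IsNormalScheme C)
    (hdim : topologicalKrullDim C = 1) (y : BigSite.H fp C (EtDl.GmF C) 2) : y = 0 := by
  have hN : IsNoetherian C := CurvesA.ClosedPtSep.isNoetherian f
  have hreg : ∀ x : C, IsRegularLocalRing (C.presheaf.stalk x) := by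
    intro x
    obtain ⟨h1, h2⟩ := hn x
    exact CalgA.SerreLocal.isRegularLocalRing_of_isIntegrallyClosed
      ((CurvesA.DimOne.ringKrullDim_stalk_le C x).trans hdim.le)
  have hE : CohtopA.GmDivGen.ELF C := S14450.elf C hreg
  let alg : Algebra k C.functionField := (Spec.preimage (genericPt C ≫ f)).hom.toAlgebra
  have hk : genericPt C ≫ f = Spec.map (CommRingCat.ofHom (algebraMap k C.functionField)) :=
    (Spec.map_preimage _).symm
  have h1 := PropCurve.pull_genericPt f hk hdim y
  refine K574.GmInj.main C y fun η => ?_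
  have hη : η.1 = genericPoint C :=
    (η.2.eq_of_specializes (genericPoint_specializes η.1)).symm
  obtain ⟨η, hη'⟩ := η
  subst hη
  exact pull_comp_eq_zero (C.fromSpecStalk _) (Spec.map (C.residue _)) 2 y h1

/-- A closed subscheme with finitely many points, all closed in the ambient scheme, is finite and discrete. -/
theorem finite_discrete {Z X : Scheme.{u}} (i : Z ⟶ X) [IsClosedImmersion i] (S : Set X) (hS : S.Finite)
    (hcl : ∀ x ∈ S, IsClosed ({x} : Set X)) (hi : Set.range i ⊆ S) : Finite Z ∧ DiscreteTopology Z := by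
  have hinj : Function.Injective i := i.isClosedEmbedding.injective
  have hfin : Finite Z := Set.finite_univ_iff.1 (Set.Finite.of_finite_image (f := i)
    (hS.subset ((Set.image_subset_range _ _).trans hi)) hinj.injOn)
  have hT1 : T1Space Z := ⟨fun z => by
    have h1 := (hcl (i z) (hi ⟨z, rfl⟩)).preimage i.continuous
    rwa [← Set.image_singleton, Set.preimage_image_eq _ hinj] at h1⟩
  exact ⟨hfin, inferInstance⟩

theorem isFinite_of_discrete {k : Type u} [Field k] {Z : Scheme.{u}} (g : Z ⟶ Spec (CommRingCat.of k)) [IsProper g]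
    [Finite Z] [DiscreteTopology Z] : IsFinite g := by
  have : IsAffine Z := inferInstance
  have : IsAffineHom g := inferInstance
  exact (IsFinite.iff_isProper_and_isAffineHom).2 ⟨inferInstance, inferInstance⟩

theorem discrete_of_isFinite {k : Type u} [Field k] {X : Scheme.{u}} (f : X ⟶ Spec (CommRingCat.of k)) [IsFinite f] :
    Finite X ∧ DiscreteTopology X := by
  have h1 : IsLocallyArtinian (Spec (CommRingCat.of k)) :=
    Scheme.isLocallyArtinianScheme_Spec.mpr inferInstance
  have h2 : IsLocallyArtinian X := IsLocallyArtinian.of_locallyQuasiFinite (f := f)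
  have h3 : DiscreteTopology X := inferInstance
  have h4 : CompactSpace X := QuasiCompact.compactSpace_of_compactSpace f
  exact ⟨finite_of_compact_of_discrete, h3⟩

open Groth.Agent.Pic13.H557 in
/-- **The Brauer group of a geometrically irreducible reduced proper curve over a finite field vanishes.** -/
theorem main {k : Type u} [Field k] [Finite k] {X : Scheme.{u}} (f : X ⟶ Spec (CommRingCat.of k)) [IsProper f]
    [IsIntegral X] (hdim : topologicalKrullDim X = 1) (ξ : EtCoh.H X (EtCoh.Gm X) 2) : ξ = 0 := by
  have hN : IsNoetherian X := CurvesA.ClosedPtSep.isNoetherian f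
  obtain ⟨Y, ν, hν, hs, hY, hn, ⟨V, hV, hViso⟩, hdY⟩ := Etcore.CurveComp.exists_normalization k X f
  -- the class dies on the normalization
  have h1 : HRes.pull fp ν (EtDl.GmF X) 2 (K574.GmInj.eX X ξ) = 0 :=
    (res_eq_zero_iff ν 2 _).1 (eq_zero_of_normal (ν ≫ f) hn (hdY.trans hdim) _)
  have h2 := K574.GmInj.comp_eq_zero ν (Sga4A.EtSplit.isZero_Rpush ν (EtCoh.Gm Y) 1 le_rfl) ξ h1
  -- the conductor subscheme
  obtain ⟨hfin, hcl⟩ := Etcore.CurveTop.compl_finite X hdim.le V (fun D hD => by
    have h3 : D = Set.univ := by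
      have h4 : irreducibleComponents X = {Set.univ} := irreducibleComponents_eq_singleton
      rw [h4] at hD
      exact hD
    rw [h3, Set.inter_univ]
    exact hV)
  let I := PatchFin.conductor ν
  have hsupp : Set.range I.subschemeι ⊆ (V : Set X)ᶜ := by
    rw [Scheme.IdealSheafData.range_subschemeι]
    intro x hx hxV
    exact PatchFin.le_support_conductor_compl ν V hViso hxV hx
  obtain ⟨hZf, hZd⟩ := finite_discrete I.subschemeι ((V : Set X)ᶜ) hfin (fun x hx => hcl x hx) hsupp
  have hZk : IsFinite (I.subschemeι ≫ f) := isFinite_of_discrete _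
  have hZ := FinGm.subsingleton_H2 (I.subschemeι ≫ f)
  have hTk : IsFinite (pullback.snd ν I.subschemeι ≫ I.subschemeι ≫ f) := inferInstance
  obtain ⟨hTf, hTd⟩ := discrete_of_isFinite (pullback.snd ν I.subschemeι ≫ I.subschemeι ≫ f)
  have hT := Etbc.H238.HilbStk.subsingleton_H1_Gm (pullback ν I.subschemeι)
  exact FinBir.eq_zero_of_push ν hZ hT ξ h2

end K107.BrCurve
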