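import Groth.Agent.Dix.K107.PullGm
import Groth.Agent.Dix.K107.FinGm
import Groth.Agent.TateGlob.K282.BrHN
import Groth.Agent.TateGlob.K828.OvHens
import Groth.Agent.MiscA.CurvePlaces
import Groth.Agent.RatVar.K872.Unirat
import Groth.Agent.S11085
import Groth.Agent.S5715
import Groth.Agent.S0101
import Mathlib.AlgebraicGeometry.ValuativeCriterion

/-!
# Restriction of `H²_fppf(C, G_m)` to the generic point of a proper curve over a finite field

A class of `H²(C, G_m)` dies in all the completions of the function field, hence in the function field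
by the theorem of Brauer, Hasse and Noether.
-/

set_option autoImplicit false
universe u

open CategoryTheory CategoryTheory.Limits CategoryTheory.Abelian AlgebraicGeometry Opposite

namespace K107.PropCurve

open Groth.Agent Groth.Agent.MiscA.CurvePlaces K107.PullGm

/-- `H²(O, G_m) = 0` for a henselian local ring with finite residue field. -/
theorem subsingleton_H2_hens (R : Type u) [CommRing R] [HenselianLocalRing R]
    [Finite (IsLocalRing.ResidueField R)] :
    Subsingleton (EtCoh.H (Spec (CommRingCat.of R)) (EtCoh.Gm _) 2) := by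
  let I := IsLocalRing.maximalIdeal R
  let i := Spec.map (CommRingCat.ofHom (Ideal.Quotient.mk I))
  have hf : PreservesFiniteLimits (EtCoh.pull i) := S0101.result i
  have h1 := S5715.result R I (Ideal.IsPrime.ne_top inferInstance) 2 (by lia)
  have h3 : Subsingleton (EtCoh.H (Spec (CommRingCat.of (IsLocalRing.ResidueField R))) (EtCoh.Gm _) 2) :=
    FinGm.subsingleton_H2 (k := IsLocalRing.ResidueField R) (𝟙 (Spec (CommRingCat.of (IsLocalRing.ResidueField R))))
  have h2 : Subsingleton (EtCoh.H (Spec (CommRingCat.of (R ⧸ I))) (EtCoh.Gm _) 2) := h3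
  exact h1.1.subsingleton

variable {k : Type u} [Field k] {C : Scheme.{u}} [IsIntegral C] (f : C ⟶ Spec (CommRingCat.of k))
  [Algebra k C.functionField]
  (hk : genericPt C ≫ f = Spec.map (CommRingCat.ofHom (algebraMap k C.functionField)))

include hk in
/-- The function field of a curve is generated by one element up to a finite extension. -/
theorem exists_isGen [LocallyOfFiniteType f] (hdim : topologicalKrullDim C = 1) :
    ∃ t : C.functionField, K660.Places.IsGen k C.functionField t := by
  obtain ⟨_, ⟨V, hV, rfl⟩, hηV, -⟩ :=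
    C.isBasis_affineOpens.exists_subset_of_mem_open (Set.mem_univ (genericPoint C)) isOpen_univ
  have hV' : (V : Set C).Nonempty := ⟨_, hηV⟩
  have : Nonempty V := ⟨⟨_, hηV⟩⟩
  let kR : CommRingCat.of k ⟶ Γ(C, V) := Spec.preimage (hV.fromSpec ≫ f)
  have hkR : Spec.map kR = hV.fromSpec ≫ f := Spec.map_preimage _
  let _ : Algebra k Γ(C, V) := kR.hom.toAlgebra
  have hft : Algebra.FiniteType k Γ(C, V) := by
    have h1 : LocallyOfFiniteType (Spec.map kR) := by
      rw [hkR]
      infer_instance
    exact (HasRingHomProperty.Spec_iff (P := @LocallyOfFiniteType)).1 h1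
  have hfr : IsFractionRing Γ(C, V) C.functionField := functionField_isFractionRing_of_isAffineOpen C _ hV
  have hA : ringKrullDim Γ(C, V) = 1 := by
    rw [K872.Unirat.dim_eq k C f V hV hV', hdim]
  have htow : IsScalarTower k Γ(C, V) C.functionField := by
    refine IsScalarTower.of_algebraMap_eq fun c => ?_
    have h1 : genericPt C = Spec.map (C.presheaf.germ V (genericPoint C) hηV) ≫ hV.fromSpec :=
      (hV.fromSpecStalk_eq_fromSpecStalk hηV).symm
    have h2 : Spec.map (CommRingCat.ofHom (algebraMap k C.functionField)) =
        Spec.map (kR ≫ C.presheaf.germ V (genericPoint C) hηV) := by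
      rw [← hk, h1, Category.assoc, ← hkR, ← Spec.map_comp]
    exact congrArg (fun q : CommRingCat.of k ⟶ C.functionField => q.hom c) (Spec.map_injective h2)
  exact S11085.exists_isGen k Γ(C, V) C.functionField hA

open FunFld AdFn

include hk in
/-- The valuative criterion for the places. -/
theorem exists_lift [IsProper f] (v : Place k C.functionField) :
    ∃ l : Spec (CommRingCat.of (Ov v)) ⟶ C,
      Spec.map (CommRingCat.ofHom (algebraMap (Ov v) (Kv v))) ≫ l =
        Spec.map (CommRingCat.ofHom (algebraMap C.functionField (Kv v))) ≫ genericPt C := by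
  let ψ : k →+* Ov v := ((toKv v).comp (algebraMap k C.functionField)).codRestrict (Ov v).toSubring
    fun c => (toKv_mem_Ov v _).2 (v.2.1 c)
  have hψ : (algebraMap (Ov v) (Kv v)).comp ψ = (algebraMap C.functionField (Kv v)).comp (algebraMap k _) :=
    RingHom.ext fun _ => rfl
  have hex : ValuativeCriterion.Existence f := by
    have h : UniversallyClosed f := inferInstance
    rw [UniversallyClosed.eq_valuativeCriterion] at h
    exact h.1
  let S : ValuativeCommSq f :=
    { R := Ov v
      K := Kv v
      i₁ := Spec.map (CommRingCat.ofHom (algebraMap C.functionField (Kv v))) ≫ genericPt C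
      i₂ := Spec.map (CommRingCat.ofHom ψ)
      commSq := ⟨by
        rw [Category.assoc, hk, ← Spec.map_comp, ← Spec.map_comp, ← CommRingCat.ofHom_comp,
          ← CommRingCat.ofHom_comp, hψ]⟩ }
  obtain ⟨⟨l⟩⟩ := hex S
  exact ⟨l.l, l.fac_left⟩

include hk in
/-- **A class of `H²(C, G_m)` dies at the generic point.** -/
theorem pull_genericPt [Finite k] [IsProper f] (hdim : topologicalKrullDim C = 1)
    (y : BigSite.H fp C (EtDl.GmF C) 2) : HRes.pull fp (genericPt C) (EtDl.GmF C) 2 y = 0 := by
  obtain ⟨t, ht⟩ := exists_isGen f hk hdim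
  rw [← res_eq_zero_iff]
  refine K282.BrHN.eq_zero ht (res (genericPt C) 2 y) fun w => ?_
  refine (pull_res_eq_zero_iff (genericPt C) _ 2 y).2 ?_
  obtain ⟨l, hl⟩ := exists_lift f hk w
  have : HenselianLocalRing (Ov w) := K828.OvHens.henselian w
  have : Finite (IsLocalRing.ResidueField (Ov w)) := K828.OvHens.finite_residueField w ht
  have h1 := pull_eq_zero_of_subsingleton l 2 (subsingleton_H2_hens (Ov w)) y
  have h2 := pull_comp_eq_zero l (Spec.map (CommRingCat.ofHom (algebraMap (Ov w) (Kv w)))) 2 y h1
  rw [hl] at h2
  exact h2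

end K107.PropCurve
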