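import Groth.Agent.HRes.K836.Pull
import Groth.Agent.TateGlob.K282.GmVan
import Groth.Agent.MultTori.K574.GmInj

/-!
# Restriction maps in `H²_fppf(X, G_m)`: vanishing statements
-/

set_option autoImplicit false
universe u

open CategoryTheory CategoryTheory.Limits CategoryTheory.Abelian AlgebraicGeometry Opposite

namespace K107.PullGm

noncomputable section

abbrev fp : Precoverage Scheme.{u} := Scheme.fppfPrecoverage.{u}

variable {X Y Z : Scheme.{u}}

theorem map_injective {F F' : BigSite.Ab fp X} (e : F ≅ F') (n : ℕ) (x : BigSite.H fp X F n)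
    (h : Sheaf.H.map e.hom n x = 0) : x = 0 := by
  have h1 := congrArg (Sheaf.H.map e.inv n) h
  rw [Sheaf.H.map_apply, Sheaf.H.map_apply, map_zero, Ext.comp_assoc_of_third_deg_zero, Ext.mk₀_comp_mk₀,
    Iso.hom_inv_id, Ext.comp_mk₀_id] at h1
  exact h1

/-- Composition of restriction maps. -/
theorem pull_comp_eq_zero_iff (f : Y ⟶ X) (g : Z ⟶ Y) (F : BigSite.Ab fp X) (n : ℕ) (x : BigSite.H fp X F n) :
    HRes.pull fp (g ≫ f) F n x = 0 ↔
      HRes.pull fp g ((BigSite.pullBig fp f AddCommGrpCat.{u + 1}).obj F) n (HRes.pull fp f F n x) = 0 := by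
  rw [K836.HResPull.pull_comp]
  constructor
  · intro h
    exact map_injective ((fp.toGrothendieck.overMapPullbackComp AddCommGrpCat.{u + 1} g f).app F) n _ h
  · intro h
    rw [h, map_zero]

/-- The restriction of `G_m` is `G_m`. -/
def gmIso (f : Y ⟶ X) : (BigSite.pullBig fp f AddCommGrpCat.{u + 1}).obj (EtDl.GmF X) ≅ EtDl.GmF Y :=
  (fullyFaithfulSheafToPresheaf _ _).preimageIso (NatIso.ofComponents (fun _ => Iso.refl _)
    (fun _ => (Category.comp_id _).trans ((Category.id_comp _).trans rfl).symm))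

/-- The restriction along `f` of a class of `H^n(X, G_m)`, as a class of `H^n(Y, G_m)`. -/
def res (f : Y ⟶ X) (n : ℕ) (x : BigSite.H fp X (EtDl.GmF X) n) : BigSite.H fp Y (EtDl.GmF Y) n :=
  Sheaf.H.map (gmIso f).hom n (HRes.pull fp f (EtDl.GmF X) n x)

theorem res_eq_zero_iff (f : Y ⟶ X) (n : ℕ) (x : BigSite.H fp X (EtDl.GmF X) n) :
    res f n x = 0 ↔ HRes.pull fp f (EtDl.GmF X) n x = 0 := by
  constructor
  · exact fun h => map_injective _ n _ h
  · intro h
    rw [res, h, map_zero]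

/-- Restricting the restriction. -/
theorem pull_res_eq_zero_iff (f : Y ⟶ X) (g : Z ⟶ Y) (n : ℕ) (x : BigSite.H fp X (EtDl.GmF X) n) :
    HRes.pull fp g (EtDl.GmF Y) n (res f n x) = 0 ↔ HRes.pull fp (g ≫ f) (EtDl.GmF X) n x = 0 := by
  rw [pull_comp_eq_zero_iff, res, HRes.pull_map]
  constructor
  · intro h
    exact map_injective ((BigSite.pullBig fp g AddCommGrpCat.{u + 1}).mapIso (gmIso f)) n _ h
  · intro h
    rw [h, map_zero]

/-- The restriction map to a scheme without cohomology is zero. -/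
theorem pull_eq_zero_of_subsingleton (f : Y ⟶ X) (n : ℕ) (h : Subsingleton (EtCoh.H Y (EtCoh.Gm Y) n))
    (x : BigSite.H fp X (EtDl.GmF X) n) : HRes.pull fp f (EtDl.GmF X) n x = 0 := by
  obtain ⟨e⟩ := K282.GmVan.nonempty_equiv Y n
  have h1 : Subsingleton (BigSite.H fp Y (EtDl.GmF Y) n) := e.symm.toEquiv.subsingleton
  exact (res_eq_zero_iff f n x).1 (Subsingleton.elim _ _)

theorem pull_comp_eq_zero (f : Y ⟶ X) (g : Z ⟶ Y) (n : ℕ) (x : BigSite.H fp X (EtDl.GmF X) n)
    (h : HRes.pull fp f (EtDl.GmF X) n x = 0) : HRes.pull fp (g ≫ f) (EtDl.GmF X) n x = 0 := by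
  rw [pull_comp_eq_zero_iff, h, map_zero]

end

end K107.PullGm
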