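import Groth.Agent.GIT.K686.PushRing
import Groth.Agent.Pic13.H557.PatchFin

/-!
# Ideals of the base whose image in an algebra is an ideal, and base change

`Stab φ I`: the image of the ideal `I` of `A` in the `A`-algebra `B` is an ideal of `B`.  It is stable
under base change.  `stab_conductor`: the conductor of a finite morphism over an affine étale (or any
affine) scheme over an affine open.
-/

set_option autoImplicit false
set_option linter.dupNamespace false
universe u

open CategoryTheory CategoryTheory.Limits AlgebraicGeometry Opposite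

namespace K107.Stab

/-- The image of the ideal `I` in `B` is an ideal of `B`. -/
def Stab {A B : Type*} [CommRing A] [CommRing B] (φ : A →+* B) (I : Ideal A) : Prop :=
  ∀ c ∈ I, ∀ x : B, ∃ c' ∈ I, φ c' = x * φ c

theorem Stab.exists_of_mem_map {A B : Type*} [CommRing A] [CommRing B] {φ : A →+* B} {I : Ideal A}
    (h : Stab φ I) {y : B} (hy : y ∈ I.map φ) : ∃ c ∈ I, φ c = y :=
  (Groth.Agent.Pic13.H557.PatchFin.mem_map_iff φ I h y).1 hy

theorem Stab.comp {A B B' : Type*} [CommRing A] [CommRing B] [CommRing B'] {φ : A →+* B} {I : Ideal A}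
    (h : Stab φ I) (e : B →+* B') (he : Function.Surjective e) : Stab (e.comp φ) I := by
  intro c hc x
  obtain ⟨y, rfl⟩ := he x
  obtain ⟨c', hc', h'⟩ := h c hc y
  refine ⟨c', hc', ?_⟩
  rw [RingHom.comp_apply, RingHom.comp_apply, h', map_mul]

/-- The kernel of a pushout of a surjection. -/
theorem ker_of_isPushout {R B R' P : CommRingCat.{u}} {a : R ⟶ B} {b : R ⟶ R'} {c : B ⟶ P} {d : R' ⟶ P}
    (h : IsPushout a b c d) (hb : Function.Surjective b.hom) :
    RingHom.ker c.hom = (RingHom.ker b.hom).map a.hom := by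
  apply le_antisymm
  · intro x hx
    let I : Ideal B := (RingHom.ker b.hom).map a.hom
    let q : B ⟶ CommRingCat.of (B ⧸ I) := CommRingCat.ofHom (Ideal.Quotient.mk I)
    have hk : RingHom.ker b.hom ≤ RingHom.ker (q.hom.comp a.hom) := fun y hy => by
      rw [RingHom.mem_ker, RingHom.comp_apply]
      exact Ideal.Quotient.eq_zero_iff_mem.2 (Ideal.mem_map_of_mem _ hy)
    let r : R' →+* (B ⧸ I) := RingHom.liftOfSurjective b.hom hb ⟨q.hom.comp a.hom, hk⟩
    have hr : a ≫ q = b ≫ CommRingCat.ofHom r := by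
      ext y
      exact (RingHom.liftOfRightInverse_comp_apply b.hom _ (Function.rightInverse_surjInv hb)
        ⟨q.hom.comp a.hom, hk⟩ y).symm
    have h1 : c ≫ h.desc q (CommRingCat.ofHom r) hr = q := h.inl_desc _ _ _
    have h2 : q.hom x = 0 := by
      rw [← h1, CommRingCat.hom_comp, RingHom.comp_apply, (RingHom.mem_ker).1 hx, map_zero]
    exact Ideal.Quotient.eq_zero_iff_mem.1 h2
  · rw [Ideal.map_le_iff_le_comap]
    intro y hy
    rw [Ideal.mem_comap, RingHom.mem_ker, ← RingHom.comp_apply, ← CommRingCat.hom_comp, h.w,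
      CommRingCat.hom_comp, RingHom.comp_apply, (RingHom.mem_ker).1 hy, map_zero]

/-- `Stab` is stable under base change. -/
theorem Stab.pushout {A A₁ B B₁ : CommRingCat.{u}} {f : A ⟶ A₁} {g : A ⟶ B} {i : A₁ ⟶ B₁} {j : B ⟶ B₁}
    (h : IsPushout f g i j) {I : Ideal A} (hI : Stab f.hom I) : Stab j.hom (I.map g.hom) := by
  intro c hc
  refine Submodule.span_induction (p := fun c _ => ∀ x : B₁, ∃ c' ∈ I.map g.hom, j.hom c' = x * j.hom c)
    ?_ ?_ ?_ ?_ hc
  · rintro _ ⟨a, ha, rfl⟩ x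
    refine K686.PushRing.induction h (P := fun x => ∃ c' ∈ I.map g.hom, j.hom c' = x * j.hom (g.hom a))
      (fun y b => ?_) (fun x y hx hy => ?_) x
    · obtain ⟨a', ha', h'⟩ := hI a ha y
      refine ⟨b * g.hom a', Ideal.mul_mem_left _ _ (Ideal.mem_map_of_mem _ ha'), ?_⟩
      have h1 : ∀ z : A, j.hom (g.hom z) = i.hom (f.hom z) := fun z =>
        (ConcreteCategory.congr_hom h.w z).symm
      rw [map_mul, h1, h1, h', map_mul]
      change _ = i.hom y * j.hom b * _
      ring
    · obtain ⟨c₁, h₁, e₁⟩ := hx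
      obtain ⟨c₂, h₂, e₂⟩ := hy
      exact ⟨c₁ + c₂, add_mem h₁ h₂, by rw [map_add, e₁, e₂, add_mul]⟩
  · exact fun x => ⟨0, zero_mem _, by rw [map_zero, mul_zero]⟩
  · intro x y _ _ hx hy z
    obtain ⟨c₁, h₁, e₁⟩ := hx z
    obtain ⟨c₂, h₂, e₂⟩ := hy z
    exact ⟨c₁ + c₂, add_mem h₁ h₂, by rw [map_add, e₁, e₂, map_add, mul_add]⟩
  · intro b x _ hx z
    obtain ⟨c', h', e'⟩ := hx (z * j.hom b)
    exact ⟨c', h', by rw [e', smul_eq_mul, map_mul, mul_assoc]⟩

section Scheme

/-- The kernel on global sections of a base change of a closed immersion of affine schemes. -/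
theorem ker_appTop {P S U T : Scheme.{u}} {t : T ⟶ P} {s : T ⟶ S} {p : P ⟶ U} {i : S ⟶ U}
    [IsAffine P] [IsAffine U] [IsClosedImmersion i] (sq : IsPullback t s p i) :
    RingHom.ker t.appTop.hom = (RingHom.ker i.appTop.hom).map p.appTop.hom := by
  obtain ⟨hA, hs⟩ := IsClosedImmersion.isAffine_surjective_of_isAffine i
  exact ker_of_isPushout (isPushout_appTop_of_isPullback sq) hs

/-- `Stab` for the kernel of a closed immersion is stable under base change. -/
theorem stab_of_isPullback {O P S U PU SU : Scheme.{u}} {p : P ⟶ O} {i : S ⟶ O} {u : U ⟶ O}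
    {p' : PU ⟶ U} {v : PU ⟶ P} {i' : SU ⟶ U} {w : SU ⟶ S}
    [IsAffine O] [IsAffine U] [IsAffine P] [IsClosedImmersion i]
    (sq₁ : IsPullback p' v u p) (sq₂ : IsPullback i' w u i)
    (h : Stab p.appTop.hom (RingHom.ker i.appTop.hom)) : Stab p'.appTop.hom (RingHom.ker i'.appTop.hom) := by
  rw [ker_appTop sq₂]
  exact Stab.pushout (isPushout_appTop_of_isPullback sq₁).flip h

open Groth.Agent.Pic13.H557 in
/-- The conductor. -/
theorem stab_conductor_open {X X₁ : Scheme.{u}} (f : X₁ ⟶ X) [IsFinite f] (O : X.affineOpens) :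
    Stab (f ∣_ O.1).appTop.hom (RingHom.ker ((PatchFin.conductor f).subschemeι ∣_ O.1).appTop.hom) := by
  have hV : IsAffineOpen (O.1.ι ''ᵁ ⊤) := by
    have : IsAffine (O.1 : Scheme.{u}) := O.2
    exact (isAffineOpen_top (O.1 : Scheme.{u})).image_of_isOpenImmersion _
  let I := PatchFin.conductor f
  have hb := ConcreteCategory.bijective_of_isIso
      (I.subscheme.presheaf.map (eqToHom (image_morphismRestrict_preimage I.subschemeι O.1 ⊤)).op)
  have hb₁ := ConcreteCategory.bijective_of_isIso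
      (X₁.presheaf.map (eqToHom (image_morphismRestrict_preimage f O.1 ⊤)).op)
  have h1 : ∀ x : Γ(X, O.1.ι ''ᵁ ⊤), (I.subschemeι ∣_ O.1).appTop.hom x = 0 ↔ x ∈ I.ideal ⟨O.1.ι ''ᵁ ⊤, hV⟩ := by
    intro x
    rw [← Scheme.IdealSheafData.ker_subschemeι_app, RingHom.mem_ker]
    have h2 : (I.subschemeι ∣_ O.1).appTop.hom x =
        (I.subscheme.presheaf.map (eqToHom (image_morphismRestrict_preimage I.subschemeι O.1 ⊤)).op).hom
          ((I.subschemeι.app (O.1.ι ''ᵁ ⊤)).hom x) :=
      congrArg (fun k => k.hom x) (morphismRestrict_appTop I.subschemeι O.1)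
    exact (congrArg (· = 0) h2).to_iff.trans (map_eq_zero_iff _ hb.1)
  have h2 : ∀ x : Γ(X, O.1.ι ''ᵁ ⊤), (f ∣_ O.1).appTop.hom x =
        (X₁.presheaf.map (eqToHom (image_morphismRestrict_preimage f O.1 ⊤)).op).hom
          ((f.app (O.1.ι ''ᵁ ⊤)).hom x) := fun x =>
      congrArg (fun k => k.hom x) (morphismRestrict_appTop f O.1)
  intro c hc x
  have hc' := (h1 c).1 hc
  obtain ⟨y, hy⟩ := hb₁.2 x
  obtain ⟨c', hc', h'⟩ := Cond.exists_mem_cond (φ := (f.app (O.1.ι ''ᵁ ⊤)).hom) hc' y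
  refine ⟨c', (h1 c').2 hc', ?_⟩
  refine (h2 c').trans ((congrArg _ h').trans ((map_mul _ _ _).trans ?_))
  exact congrArg₂ (· * ·) hy (h2 c).symm

open Groth.Agent.Pic13.H557 in
/-- The conductor over an affine scheme over an affine open. -/
theorem stab_conductor {X X₁ : Scheme.{u}} (f : X₁ ⟶ X) [IsFinite f] {U PU SU : Scheme.{u}} [IsAffine U]
    {u : U ⟶ X} {p' : PU ⟶ U} {v : PU ⟶ X₁} {i' : SU ⟶ U} {w : SU ⟶ (PatchFin.conductor f).subscheme}
    (sq₁ : IsPullback p' v u f) (sq₂ : IsPullback i' w u (PatchFin.conductor f).subschemeι)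
    (O : X.affineOpens) (hO : Set.range u ⊆ O.1) :
    Stab p'.appTop.hom (RingHom.ker i'.appTop.hom) := by
  have : IsAffine (O.1 : Scheme.{u}) := O.2
  have : IsAffine ((f ⁻¹ᵁ O.1 : X₁.Opens) : Scheme.{u}) := O.2.preimage f
  have hr : Set.range u ⊆ Set.range O.1.ι := by
    rw [Scheme.Opens.range_ι]; exact hO
  let u' : U ⟶ O.1 := IsOpenImmersion.lift O.1.ι u hr
  have hu' : u' ≫ O.1.ι = u := IsOpenImmersion.lift_fac _ _ _
  have key : ∀ {Z W : Scheme.{u}} (g : Z ⟶ X) (q : W ⟶ U) (r : W ⟶ Z) (sq : IsPullback q r u g),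
      ∃ r' : W ⟶ (g ⁻¹ᵁ O.1), IsPullback q r' u' (g ∣_ O.1) := by
    intro Z W g q r sq
    have h0 := (isPullback_morphismRestrict g O.1).flip
    have hw : r ≫ g = (q ≫ u') ≫ O.1.ι := by rw [Category.assoc, hu', sq.w]
    refine ⟨h0.lift r (q ≫ u') hw, IsPullback.of_bot ?_ (h0.lift_snd _ _ _).symm
      (isPullback_morphismRestrict g O.1)⟩
    rw [h0.lift_fst, hu']
    exact sq
  obtain ⟨v', sq₁'⟩ := key f p' v sq₁
  obtain ⟨w', sq₂'⟩ := key _ i' w sq₂
  have : IsClosedImmersion ((PatchFin.conductor f).subschemeι ∣_ O.1) :=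
    MorphismProperty.of_isPullback (isPullback_morphismRestrict
      (PatchFin.conductor f).subschemeι O.1).flip inferInstance
  exact stab_of_isPullback sq₁' sq₂' (stab_conductor_open f O)

end Scheme

end K107.Stab
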